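import Groth.Agent.KrullSch.GaloisSplit
import Groth.Agent.KrullSch.AmitsurBir
import Groth.Agent.GrpAmple.Smooth
import Groth.Agent.AmpleEmb.Closed
import Groth.Agent.Castel.CanonPn
import Groth.Agent.Castel.AmpleDeg
import Mathlib.AlgebraicGeometry.Geometrically.Integral
import Groth.Agent.Horrocks.Dim
import Mathlib.RingTheory.TensorProduct.Basic

/-!
Brauer-Severi schemes are geometrically integral and projective.
-/

set_option autoImplicit false
set_option backward.isDefEq.respectTransparency false
set_option backward.isDefEq.respectTransparency.types false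
set_option linter.style.haveILetI false

universe u

open CategoryTheory CategoryTheory.Limits AlgebraicGeometry TensorProduct

noncomputable section

namespace Groth.Agent.BSProjective

variable {k : Type u} [Field k] {X : Scheme.{u}} {f : X ⟶ Spec (CommRingCat.of k)} {n : ℕ}

theorem surjective_flat_specMap {L K : Type u} [Field L] [Field K] (ψ : L →+* K) :
    Surjective (Spec.map (CommRingCat.ofHom ψ)) ∧ Flat (Spec.map (CommRingCat.ofHom ψ)) := by
  haveI : Subsingleton (Spec (CommRingCat.of L)) := inferInstanceAs (Subsingleton (PrimeSpectrum L))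
  refine ⟨⟨fun y => ⟨IsLocalRing.closedPoint K, Subsingleton.elim _ _⟩⟩, ?_⟩
  letI := ψ.toAlgebra
  rw [HasRingHomProperty.Spec_iff (P := @Flat)]
  show ψ.Flat
  exact (inferInstance : Module.Flat L K)

theorem stalkMap_injective {A B : Scheme.{u}} (q : A ⟶ B) [Flat q] (w : A) : Function.Injective (q.stalkMap w) := by
  algebraize [(q.stalkMap w).hom]
  have : Module.FaithfullyFlat (B.presheaf.stalk (q w)) (A.presheaf.stalk w) :=
    @Module.FaithfullyFlat.of_flat_of_isLocalHom _ _ _ _ _ _ _ (Flat.stalkMap q w) (q.toLRSHom.prop w)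
  exact ‹RingHom.FaithfullyFlat _›.injective

theorem exists_common_field (L K : Type u) [Field L] [Field K] [Algebra k L] [Algebra k K] :
    ∃ (Ω : Type u) (_ : Field Ω) (a : L →+* Ω) (b : K →+* Ω),
      a.comp (algebraMap k L) = b.comp (algebraMap k K) := by
  haveI : Nontrivial (L ⊗[k] K) := inferInstance
  obtain ⟨m, hm⟩ := Ideal.exists_maximal (L ⊗[k] K)
  letI := Ideal.Quotient.field m
  refine ⟨_ ⧸ m, inferInstance, (Ideal.Quotient.mk m).comp Algebra.TensorProduct.includeLeftRingHom,
    (Ideal.Quotient.mk m).comp (Algebra.TensorProduct.includeRight : K →ₐ[k] L ⊗[k] K).toRingHom, ?_⟩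
  refine RingHom.ext fun r => congrArg (Ideal.Quotient.mk m) ?_
  show algebraMap k L r ⊗ₜ[k] (1 : K) = (1 : L) ⊗ₜ[k] algebraMap k K r
  rw [Algebra.algebraMap_eq_smul_one, Algebra.algebraMap_eq_smul_one, smul_tmul]

theorem geometricallyIntegral {K : Type u} [Field K] [Algebra k K] (e : BrSev.Splitting f K n) :
    GeometricallyIntegral f := by
  refine ⟨fun L _ y Z fst snd hZ => ?_⟩
  obtain ⟨φ, rfl⟩ := Spec.map_surjective y
  letI : Algebra k L := φ.hom.toAlgebra
  obtain ⟨Ω, _, a, b, hab⟩ := exists_common_field (k := k) L K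
  obtain ⟨hs, hfl⟩ := surjective_flat_specMap a
  obtain ⟨j, hj⟩ := Castel.exists_isPullback_projSpace b n
  -- the base change to `K`, transported to projective space
  have hK : IsPullback (e.iso.inv ≫ BrSev.proj f K) (CohB1.ProjSpace.toSpec n K) f
      (Spec.map (CommRingCat.ofHom (algebraMap k K))) :=
    IsPullback.of_iso (IsPullback.of_hasPullback f _) e.iso (Iso.refl _) (Iso.refl _) (Iso.refl _)
      (by simp) (by simp [e.comm]) (by simp) (by simp)
  have hO := hj.paste_horiz hK
  have he : Spec.map (CommRingCat.ofHom b) ≫ Spec.map (CommRingCat.ofHom (algebraMap k K)) =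
      Spec.map (CommRingCat.ofHom a) ≫ Spec.map φ := by
    rw [← Spec.map_comp, ← Spec.map_comp]
    exact congrArg Spec.map (CommRingCat.hom_ext hab.symm)
  let q : CohB1.ProjSpace n Ω ⟶ Z := hZ.lift (j ≫ e.iso.inv ≫ BrSev.proj f K)
    (CohB1.ProjSpace.toSpec n Ω ≫ Spec.map (CommRingCat.ofHom a)) (by rw [hO.w, he, Category.assoc])
  have hq : IsPullback q (CohB1.ProjSpace.toSpec n Ω) snd (Spec.map (CommRingCat.ofHom a)) := by
    refine IsPullback.of_right ?_ (hZ.lift_snd _ _ _) hZ
    rw [hZ.lift_fst, ← he]
    exact hO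
  haveI : Surjective q := MorphismProperty.of_isPullback hq.flip hs
  haveI : Flat q := MorphismProperty.of_isPullback hq.flip hfl
  haveI : IsIntegral (CohB1.ProjSpace n Ω) := Horrocks.isIntegral_projSpace
  haveI : IsReduced Z := by
    haveI : ∀ z : Z, _root_.IsReduced (Z.presheaf.stalk z) := fun z => by
      obtain ⟨w, rfl⟩ := q.surjective z
      exact isReduced_of_injective (q.stalkMap w).hom (stalkMap_injective q w)
    exact isReduced_of_isReduced_stalk Z
  haveI : IrreducibleSpace Z := by
    have h := (IrreducibleSpace.isIrreducible_univ (CohB1.ProjSpace n Ω)).image q q.continuous.continuousOn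
    rw [Set.image_univ, q.surjective.range_eq] at h
    exact (irreducibleSpace_def _).2 h
  exact isIntegral_of_irreducibleSpace_of_isReduced Z

theorem exists_closedImmersion {K : Type u} [Field K] [Algebra k K] (e : BrSev.Splitting f K n) :
    ∃ (N : ℕ) (i : X ⟶ CohB1.ProjSpace N k), IsClosedImmersion i ∧ i ≫ CohB1.ProjSpace.toSpec N k = f := by
  haveI := KrullSch.isProper_of_splitting e
  obtain ⟨L, _, _, _, _, ⟨t⟩⟩ := KrullSch.exists_galois_splitting' e
  obtain ⟨hs, hfl⟩ := surjective_flat_specMap (algebraMap k L)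
  haveI : IsFinite (Spec.map (CommRingCat.ofHom (algebraMap k L))) :=
    (IsFinite.SpecMap_iff _).2 (RingHom.finite_algebraMap.2 inferInstance)
  haveI := hs
  haveI := hfl
  haveI : LocallyOfFinitePresentation (BrSev.proj f L) := by
    haveI : IsLocallyNoetherian X := LocallyOfFiniteType.isLocallyNoetherian f
    infer_instance
  obtain ⟨M, hM⟩ := GrpAmple.exists_isAmple_of_finite_flat (BrSev.proj f L)
    (TMul.isAmple_pullback_of_isAffineHom t.iso.hom (Castel.isAmple_twist n L))
  obtain ⟨N, -, i, -, hi, hci, -⟩ := AmpleEmb.exists_closedImmersion_projSpace f hM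
  exact ⟨N, i, hci, hi⟩

end Groth.Agent.BSProjective
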